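import Cfsg.Agent.H0.Cover
import Cfsg.Agent.H0.ML32.D
set_option maxRecDepth 100000
set_option Elab.async false
set_option linter.unusedSectionVars false
namespace H0.VL322
open H0 BN 
noncomputable def n0 : Net := (Net.cons (nat_lit 8) (nat_lit 0xf3) (Net.cons (nat_lit 4) (nat_lit 0xf03) (Net.cons (nat_lit 2) (nat_lit 0x3003) (Net.cons (nat_lit 1) (nat_lit 0x1141) (Net.cons (nat_lit 4) (nat_lit 0xc00) (Net.cons (nat_lit 8) (nat_lit 0xc) Net.nil))))))
noncomputable def n1 : Net := (Net.cons (nat_lit 8) (nat_lit 0xc) (Net.cons (nat_lit 4) (nat_lit 0xc03) (Net.cons (nat_lit 2) (nat_lit 0x3030) (Net.cons (nat_lit 4) (nat_lit 0xc00) Net.nil))))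
noncomputable def n2 : Net := (Net.cons (nat_lit 4) (nat_lit 0xc0f) (Net.cons (nat_lit 2) (nat_lit 0x3003) (Net.cons (nat_lit 4) (nat_lit 0xc0c) (Net.cons (nat_lit 8) (nat_lit 0xc) Net.nil))))
noncomputable def n3 : Net := (Net.cons (nat_lit 8) (nat_lit 0xff) (Net.cons (nat_lit 2) (nat_lit 0x3030) (Net.cons (nat_lit 1) (nat_lit 0x5005) Net.nil)))
noncomputable def n4 : Net := (Net.cons (nat_lit 4) (nat_lit 0x30c) (Net.cons (nat_lit 2) (nat_lit 0x3) (Net.cons (nat_lit 1) (nat_lit 0x5555) (Net.cons (nat_lit 8) (nat_lit 0x30) Net.nil))))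
noncomputable def n5 : Net := (Net.cons (nat_lit 8) (nat_lit 0x30) (Net.cons (nat_lit 4) (nat_lit 0x300) (Net.cons (nat_lit 2) (nat_lit 0x3) (Net.cons (nat_lit 1) (nat_lit 0x5555) (Net.cons (nat_lit 4) (nat_lit 0xc) Net.nil)))))
noncomputable def n6 : Net := (Net.cons (nat_lit 8) (nat_lit 0xcf) (Net.cons (nat_lit 4) (nat_lit 0xc00) (Net.cons (nat_lit 2) (nat_lit 0x3030) (Net.cons (nat_lit 1) (nat_lit 0x4144) (Net.cons (nat_lit 4) (nat_lit 0xc) (Net.cons (nat_lit 8) (nat_lit 0x30) Net.nil))))))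
noncomputable def n7 : Net := (Net.cons (nat_lit 8) (nat_lit 0xf3) (Net.cons (nat_lit 4) (nat_lit 0xf03) (Net.cons (nat_lit 2) (nat_lit 0x3003) (Net.cons (nat_lit 1) (nat_lit 0x1141) (Net.cons (nat_lit 4) (nat_lit 0xc00) (Net.cons (nat_lit 8) (nat_lit 0xc) Net.nil))))))
noncomputable def n8 : Net := (Net.cons (nat_lit 1) (nat_lit 0x5555) Net.nil)
noncomputable def nl : List Net := [n0, n1, n2, n3, n4, n5, n6, n7, n8]
theorem nl_ok : allL (Net.ok (nat_lit 16)) nl = true := by decide +kernel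
noncomputable def R : Rep := mkRep (nat_lit 4) (nat_lit 16) nl (by decide +kernel) nl_ok
def defs : List (List ℕ) := []
theorem R_ge : ∀ x, 9 + defs.length ≤ x → R.p x = 1 := fun _ hx => mkRep_ge hx
def J : List ℕ := [1, 0, 0, 1, 0, 0, 1, 1, 1, 1, 1, 1, 1, 1, 0, 1, 0, 0, 1, 1, 1, 0, 1, 1]
def c : List ℕ := [1, 0, 0, 0, 0, 0, 0, 0, 0, 0, 0, 0, 0, 0, 0, 0, 0, 0, 0, 0, 0, 0, 0, 0]
def E : List (List ℕ × List ℕ) := covE 8 H0.ML32.B J
theorem c0 : pairsW R 0 4 ((E.drop 0).take 32) = true := by decide +kernel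
theorem c1 : eqW R 0 R.lg [8, 8] [] = true := by decide +kernel
theorem c2 : mapsP R [8] [0] [1] = true := by decide +kernel
end H0.VL322
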